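import Cfsg.Agent.H768.RM.Core
import Cfsg.Agent.H768.RV.Fi24
import Cfsg.Agent.H435.Fpr.FiTwentyThree
import Cfsg.Agent.H838.SylFive
import Cfsg.Agent.H838.FiveMain
import Cfsg.Agent.H573.Hall.FiTwentyThree

/-!
# S3849, P11: `Fi23`, all pairs but `(2,5)` (helper768)
-/

set_option autoImplicit false

namespace Cfsg.Agent.H768.RM

open Subgroup Cfsg Cfsg.Agent.H571.DExt

universe u

namespace F23

/-- the model -/
abbrev G : Type := Spor.Fi23

theorem card : Nat.card G = 4089470473293004800 := LThreeFi23.card_G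

theorem ex_prime {t : ℕ} (ht : t.Prime) (hd : t ∣ 4089470473293004800) :
    ∃ x : G, orderOf x = t ∧ Nat.card ↥(zpowers x) = t := by
  have := H573.Hall.F23.fin
  have : Fact t.Prime := ⟨ht⟩
  obtain ⟨x, hx⟩ := exists_prime_orderOf_dvd_card' (G := G) t (by rw [card]; exact hd)
  exact ⟨x, hx, by rw [Nat.card_zpowers, hx]⟩

theorem no_model {s t a m d n : ℕ} (hs : s.Prime) (ht : t.Prime) (hd : t ∣ 4089470473293004800)
    (hn : ∀ R : Subgroup G, Nat.card R = t → Nat.card (normalizer (R : Set G)) = n)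
    (hN : s ≠ t ∧ 4089470473293004800 = s ^ a * t * m ∧ ¬ s ∣ m ∧ ¬ t ∣ m ∧ s ^ d ∣ n ∧ ¬ s ^ (d + 1) ∣ n ∧
      ¬ s ^ (a - d) % t = 1 % t) : ¬ Dom ({s, t} : Set ℕ) G := by
  have := H573.Hall.F23.fin
  obtain ⟨x, hx, hX⟩ := ex_prime ht hd
  exact no_of_norm (a := a) (d := d) (m := m) card hs ht hx (hn _ hX) hN

theorem of_model {S : Type u} [Group S] (h : Spor.IsoFi23 S) {π : Set ℕ} (hG : ¬ Dom π G) : ¬ Dom π S := by
  obtain ⟨e⟩ := h
  exact fun hD => hG (RV.FiTF.dom_congr e hD)

/-- `|N(5)|` -/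
theorem card_n5 {R : Subgroup G} (hR : Nat.card R = 5) : Nat.card (normalizer (R : Set G)) = 100800 := by
  obtain ⟨F, h1, -, -, h4, h5, h6, ⟨h7⟩⟩ := H838.Fi23.five_main R hR
  have := H573.Hall.F23.fin
  rw [← h6]
  have h8 : Nat.card (Subgroup.closure (H838.Fi23.DD ∩ (centralizer (R : Set G) : Set G))) = 5040 := by
    rw [Nat.card_congr h7.toEquiv, Nat.card_perm, Nat.card_fin]
    decide
  rw [H839.Count.card_sup_of_comm h5 h4, h1, h8]

end F23

theorem no2_fi23_7 {S : Type u} [Group S] [Finite S] [IsSimpleGroup S] (h : Spor.IsoFi23 S) :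
    ¬ Dom ({2, 7} : Set ℕ) S :=
  F23.of_model h (F23.no_model (a := 18) (d := 4) (m := 2228584547475) (by norm_num) (by norm_num) (by norm_num)
    (fun _ hR => (H435.Fpr.FiTwentyThree.data7 hR).2) (by decide +kernel))

theorem no2_fi23_11 {S : Type u} [Group S] [Finite S] [IsSimpleGroup S] (h : Spor.IsoFi23 S) :
    ¬ Dom ({2, 11} : Set ℕ) S :=
  F23.of_model h (F23.no_model (a := 18) (d := 3) (m := 1418190166575) (by norm_num) (by norm_num) (by norm_num)
    (fun _ hR => (H961.SepFi23.data11 hR).2) (by decide +kernel))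

theorem no2_fi23_13 {S : Type u} [Group S] [Finite S] [IsSimpleGroup S] (h : Spor.IsoFi23 S) :
    ¬ Dom ({2, 13} : Set ℕ) S :=
  F23.of_model h (F23.no_model (a := 18) (d := 2) (m := 1200007064025) (by norm_num) (by norm_num) (by norm_num)
    (fun _ hR => (H961.SepFi23.data13 hR).2) (by decide +kernel))

theorem no2_fi23_17 {S : Type u} [Group S] [Finite S] [IsSimpleGroup S] (h : Spor.IsoFi23 S) :
    ¬ Dom ({2, 17} : Set ℕ) S :=
  F23.of_model h (F23.no_model (a := 18) (d := 4) (m := 917652460725) (by norm_num) (by norm_num) (by norm_num)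
    (fun _ hR => (H961.SepFi23.data17 hR).2) (by decide +kernel))

theorem no2_fi23_23 {S : Type u} [Group S] [Finite S] [IsSimpleGroup S] (h : Spor.IsoFi23 S) :
    ¬ Dom ({2, 23} : Set ℕ) S :=
  F23.of_model h (F23.no_model (a := 18) (d := 0) (m := 678264862275) (by norm_num) (by norm_num) (by norm_num)
    (fun _ hR => (H961.SepFi23.data23 hR).2) (by decide +kernel))

theorem no_fi23_3_7 {S : Type u} [Group S] [Finite S] [IsSimpleGroup S] (h : Spor.IsoFi23 S) :
    ¬ Dom ({3, 7} : Set ℕ) S :=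
  F23.of_model h (F23.no_model (a := 13) (d := 2) (m := 366431436800) (by norm_num) (by norm_num) (by norm_num)
    (fun _ hR => (H435.Fpr.FiTwentyThree.data7 hR).2) (by decide +kernel))

theorem no_fi23_3_11 {S : Type u} [Group S] [Finite S] [IsSimpleGroup S] (h : Spor.IsoFi23 S) :
    ¬ Dom ({3, 11} : Set ℕ) S :=
  F23.of_model h (F23.no_model (a := 13) (d := 0) (m := 233183641600) (by norm_num) (by norm_num) (by norm_num)
    (fun _ hR => (H961.SepFi23.data11 hR).2) (by decide +kernel))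

theorem no_fi23_3_13 {S : Type u} [Group S] [Finite S] [IsSimpleGroup S] (h : Spor.IsoFi23 S) :
    ¬ Dom ({3, 13} : Set ℕ) S :=
  F23.of_model h (F23.no_model (a := 13) (d := 2) (m := 197309235200) (by norm_num) (by norm_num) (by norm_num)
    (fun _ hR => (H961.SepFi23.data13 hR).2) (by decide +kernel))

theorem no_fi23_3_23 {S : Type u} [Group S] [Finite S] [IsSimpleGroup S] (h : Spor.IsoFi23 S) :
    ¬ Dom ({3, 23} : Set ℕ) S :=
  F23.of_model h (F23.no_model (a := 13) (d := 0) (m := 111522611200) (by norm_num) (by norm_num) (by norm_num)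
    (fun _ hR => (H961.SepFi23.data23 hR).2) (by decide +kernel))

theorem no_fi23_3_5 {S : Type u} [Group S] [Finite S] [IsSimpleGroup S] (h : Spor.IsoFi23 S) :
    ¬ Dom ({3, 5} : Set ℕ) S := by
  refine F23.of_model h ?_
  have := H573.Hall.F23.fin
  have h5 : Fact (Nat.Prime 5) := ⟨by norm_num⟩
  obtain ⟨E⟩ : Nonempty (Sylow 5 F23.G) := inferInstance
  obtain ⟨h1, h2, -, -⟩ := H838.Fi23.Syl.main (MulEquiv.refl F23.G) (D := H838.Fi23.DD) (by simp) E
  refine no_dom fun K => no_of_nc (a := 13) (b := 2) (m := 102600802304) (k := 3) F23.card (by norm_num) (by norm_num)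
    (by decide +kernel) H573.Hall.F23.inv_model.1 ⟨E, h1, h2⟩ (fun x hx hd => ?_) (by decide) K
  have h3 : Nat.card (centralizer ({x} : Set F23.G)) ∣ Nat.card (normalizer ((zpowers x : Subgroup F23.G) : Set F23.G)) := by
    apply card_dvd_of_le
    have h4 : centralizer ({x} : Set F23.G) = centralizer ((zpowers x : Subgroup F23.G) : Set F23.G) := by
      rw [zpowers_eq_closure, centralizer_closure]
    rw [h4]
    exact centralizer_le_normalizer _
  rw [F23.card_n5 (by rw [Nat.card_zpowers, hx])] at h3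
  have h4 := hd.trans h3
  norm_num at h4

end Cfsg.Agent.H768.RM
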