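import Cfsg.Agent.H768.RM.FiTwentyThree
import Cfsg.Agent.H768.RM.Nonab

/-!
# S3849, P11: `Fi23`, the pair `(2,5)` (helper768)
-/

set_option autoImplicit false
set_option maxRecDepth 100000

namespace Cfsg.Agent.H768.RM

open Subgroup Cfsg Cfsg.Agent.H571.DExt

universe u

/-- the Sylow 2-subgroups of the symmetric group of degree 7 are nonabelian -/
theorem perm_seven : ∃ T : Subgroup (Equiv.Perm (Fin 7)), IsPGroup 2 T ∧ ∃ a ∈ T, ∃ b ∈ T, a * b ≠ b * a := by
  have hp2 : Fact (Nat.Prime 2) := ⟨Nat.prime_two⟩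
  let a : Equiv.Perm (Fin 7) := Equiv.swap 0 1 * Equiv.swap 1 2 * Equiv.swap 2 3
  have ha4 : a ^ 4 = 1 := by decide +kernel
  have ha2 : a ^ 2 ≠ 1 := by decide +kernel
  have hao : orderOf a = 2 ^ 2 := orderOf_eq_prime_pow (n := 1) (by rw [pow_one]; exact ha2) ha4
  have hp : IsPGroup 2 (zpowers a) := IsPGroup.of_card (n := 2) (by rw [Nat.card_zpowers, hao])
  obtain ⟨T, hT⟩ := hp.exists_le_sylow
  refine ⟨T, T.isPGroup', ?_⟩
  by_contra hcon
  push Not at hcon
  have haT : a ∈ (T : Subgroup (Equiv.Perm (Fin 7))) := hT (mem_zpowers a)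
  have h1 : (T : Subgroup (Equiv.Perm (Fin 7))) ≤ centralizer ({a} : Set (Equiv.Perm (Fin 7))) := by
    intro b hb
    rw [mem_centralizer_singleton_iff]
    exact hcon b hb a haT
  have h2 : 2 ^ 4 ∣ Nat.card (T : Subgroup (Equiv.Perm (Fin 7))) := by
    apply T.pow_dvd_card_of_pow_dvd_card
    rw [Nat.card_perm, Nat.card_fin]
    decide +kernel
  have h3 := h2.trans (card_dvd_of_le h1)
  have hct : a.cycleType = {4} := by decide +kernel
  rw [Equiv.Perm.nat_card_centralizer, hct] at h3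
  revert h3
  decide +kernel

namespace F23

open Cfsg.Agent.H838.Fi23 (DD)

theorem five_cent {x : G} (hx : orderOf x = 5) : ¬ 2 ^ (4 + 1) ∣ Nat.card (centralizer ({x} : Set G)) := by
  intro hd
  have := H573.Hall.F23.fin
  have hX : Nat.card (zpowers x) = 5 := by rw [Nat.card_zpowers, hx]
  obtain ⟨F, h1, h2, h3, h4, h5, h6, ⟨h7⟩⟩ := H838.Fi23.five_main (zpowers x) hX
  set C := closure (DD ∩ (centralizer ((zpowers x : Subgroup G) : Set G) : Set G)) with hC
  have hCc : C ≤ centralizer ((zpowers x : Subgroup G) : Set G) := by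
    rw [hC, closure_le]
    exact Set.inter_subset_right
  have h8 : centralizer ({x} : Set G) ≤ zpowers x ⊔ C := by
    intro c hc
    have h9 : c ∈ centralizer ((zpowers x : Subgroup G) : Set G) := by
      rw [zpowers_eq_closure, centralizer_closure]; exact hc
    have h10 : c ∈ F ⊔ C := by
      rw [h6]
      exact centralizer_le_normalizer _ h9
    have hcomm : ∀ (a : F) (b : C), Commute (F.subtype a) (C.subtype b) := fun a b => h5 a a.2 b b.2
    have h13 : c ∈ (F.subtype.noncommCoprod C.subtype hcomm).range := by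
      rw [MonoidHom.noncommCoprod_range, range_subtype, range_subtype]
      exact h10
    obtain ⟨⟨⟨f, hf⟩, ⟨y, hy⟩⟩, hfy⟩ := h13
    have hfy : f * y = c := hfy
    have h11 : f ∈ F ⊓ centralizer ((zpowers x : Subgroup G) : Set G) := by
      refine ⟨hf, ?_⟩
      have h12 : f = c * y⁻¹ := by rw [← hfy]; group
      rw [h12]
      exact (centralizer ((zpowers x : Subgroup G) : Set G)).mul_mem h9
        ((centralizer ((zpowers x : Subgroup G) : Set G)).inv_mem (hCc hy))
    rw [h3] at h11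
    rw [← hfy]
    exact mul_mem (mem_sup_left h11) (mem_sup_right hy)
  have h9 := card_dvd_of_le h8
  have h10 : zpowers x ⊓ C = ⊥ := le_bot_iff.1 (by rw [← h4]; exact inf_le_inf_right _ h2)
  rw [H839.Count.card_sup_of_comm (fun a ha b hb => h5 a (h2 ha) b hb) h10, hX, Nat.card_congr h7.toEquiv,
    Nat.card_perm, Nat.card_fin] at h9
  have h11 := hd.trans h9
  revert h11
  decide +kernel

theorem five_nab {x : G} (hx : orderOf x = 5) : ∃ T : Subgroup G, IsPGroup 2 T ∧ T ≤ centralizer ({x} : Set G) ∧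
    ∃ a ∈ T, ∃ b ∈ T, a * b ≠ b * a := by
  have hX : Nat.card (zpowers x) = 5 := by rw [Nat.card_zpowers, hx]
  obtain ⟨F, -, -, -, -, -, -, ⟨h7⟩⟩ := H838.Fi23.five_main (zpowers x) hX
  obtain ⟨T, hT, a, ha, b, hb, hab⟩ := perm_seven
  set C := closure (DD ∩ (centralizer ((zpowers x : Subgroup G) : Set G) : Set G)) with hC
  let φ : Equiv.Perm (Fin 7) →* G := C.subtype.comp h7.symm.toMonoidHom
  have hφ : Function.Injective φ := (subtype_injective C).comp h7.symm.injective
  have hCc : C ≤ centralizer ({x} : Set G) := by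
    rw [hC, closure_le]
    rintro d ⟨-, hd⟩
    show d ∈ centralizer ({x} : Set G)
    rw [mem_centralizer_singleton_iff]
    exact (mem_centralizer_iff.1 hd _ (mem_zpowers _)).symm
  refine ⟨T.map φ, hT.map φ, ?_, φ a, ⟨a, ha, rfl⟩, φ b, ⟨b, hb, rfl⟩, fun h => hab ?_⟩
  · rintro _ ⟨d, -, rfl⟩
    exact hCc (h7.symm d).2
  · apply hφ
    rw [map_mul, map_mul]
    exact h

theorem no_2_5 (K : Subgroup G) : ¬ IsPiHall ({2, 5} : Set ℕ) K := by
  have := H573.Hall.F23.fin
  have h5 : Fact (Nat.Prime 5) := ⟨by norm_num⟩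
  obtain ⟨E⟩ : Nonempty (Sylow 5 G) := inferInstance
  obtain ⟨h1, h2, -, -⟩ := H838.Fi23.Syl.main (MulEquiv.refl G) (D := DD) (by simp) E
  exact no_of_nonab (a := 18) (b := 2) (m := 624003673293) (k := 4) card (by norm_num) (by norm_num) (by decide +kernel)
    (H573.Hall.two_fi23 ⟨MulEquiv.refl G⟩).1 ⟨E, h1, h2⟩
    (by
      intro i j hij hj h
      interval_cases j <;> interval_cases i <;> first | exact ⟨rfl, rfl⟩ | (exact absurd h (by decide)))
    (fun x hx => five_cent hx) (fun x hx => five_nab hx) K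

end F23

theorem no2_fi23_5 {S : Type u} [Group S] [Finite S] [IsSimpleGroup S] (h : Spor.IsoFi23 S) :
    ¬ Dom ({2, 5} : Set ℕ) S := F23.of_model h (no_dom F23.no_2_5)

end Cfsg.Agent.H768.RM
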