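import Cfsg.Agent.H768.RM.Eleven
import Cfsg.Agent.H841.TwG
import Cfsg.Agent.H251.Der.U52
import Cfsg.Agent.H843.N11
import Cfsg.Agent.H435.Fpr.IndexTwo

/-!
# `Fi24`: 11 does not divide the order of the normalizer of a Sylow 3-subgroup (helper768)
-/

set_option autoImplicit false
set_option maxRecDepth 100000

namespace Cfsg.Agent.H768.RM.F24

open Cfsg Subgroup
open Cfsg.Agent.LThreeFi24.SNine
open Cfsg.Agent.H841.Tri Cfsg.Agent.H841.Ext
open Cfsg.Agent.Lib.FieldFour (F4)
open Cfsg.Spor (Fi24)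
open Cfsg.Agent.LThreeFi24.FiveConj (card_Fi24)

/-- an element of order 9 -/
theorem exists_nine : ∃ g : MulAut (PSU 5 F4 2), orderOf g = 9 := by
  have hs := simple_psu5
  obtain ⟨g, hg⟩ := Cfsg.Agent.H251.Der.exists_eighteen (F := F4) (by rw [card_F4])
  have hinj : Function.Injective (MulAut.conj : PSU 5 F4 2 →* MulAut (PSU 5 F4 2)) := by
    rw [injective_iff_map_eq_one]
    intro a ha
    have h1 : a ∈ center (PSU 5 F4 2) := by
      rw [mem_center_iff]
      intro b
      have h2 : MulAut.conj a b = b := by rw [ha]; rfl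
      rw [MulAut.conj_apply] at h2
      exact (mul_inv_eq_iff_eq_mul.1 h2).symm
    rcases (inferInstance : (center (PSU 5 F4 2)).Normal).eq_bot_or_eq_top with h3 | h3
    · rw [h3] at h1
      exact mem_bot.1 h1
    · exfalso
      let _ : CommGroup (PSU 5 F4 2) := Group.commGroupOfCenterEqTop h3
      have h5 := IsSimpleGroup.prime_card (α := PSU 5 F4 2)
      rw [card_psu5] at h5
      norm_num at h5
  refine ⟨MulAut.conj (g ^ 2), ?_⟩
  rw [orderOf_injective _ hinj, orderOf_pow, hg]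
  rfl

theorem card_quot : Nat.card (NX ⧸ QQ DN) = 3 ^ 5 * 225280 := by
  obtain ⟨hn, ⟨j⟩⟩ := quot_NX
  have h := Subgroup.card_eq_card_quotient_mul_card_subgroup (QQ DN)
  rw [card_NX, card_QQ] at h
  have h1 : 3 ^ 11 * (2 * (2 * 13685760)) = 3 ^ 11 * Nat.card (NX ⧸ QQ DN) := by rw [h, mul_comm]
  have h2 := Nat.eq_of_mul_eq_mul_left (by norm_num) h1
  rw [← h2]
  norm_num

/-- **11 does not divide the order of the normalizer of a Sylow 3-subgroup** -/
theorem not_eleven {P : Subgroup Fi24} (hP : Nat.card P = 3 ^ 16) {y : Fi24} (hy : orderOf y = 11)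
    (hyP : y ∈ normalizer (P : Set Fi24)) : False := by
  have hfin := Cfsg.Agent.R08.FiTwentyFour.finite_Fi24
  have hp3 : Fact (Nat.Prime 3) := ⟨Nat.prime_three⟩
  have hp11 : Fact (Nat.Prime 11) := ⟨by norm_num⟩
  -- `C(P) ≤ ⟨x3⟩`
  obtain ⟨P0, hP0⟩ := exists_sylow3
  have hc0 : Nat.card (P0 : Subgroup Fi24) = 3 ^ 16 := by rw [P0.card_eq_multiplicity, fac3]
  obtain ⟨P1, hP1⟩ := (IsPGroup.of_card (p := 3) (n := 16) (G := P) hP).exists_le_sylow
  have hP1' : P = P1 := eq_of_le_of_card_ge hP1 (by rw [hP, P1.card_eq_multiplicity, fac3])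
  obtain ⟨g, hg⟩ := MulAction.exists_smul_eq Fi24 P1 P0
  have hmem : ∀ a, a ∈ P ↔ g * a * g⁻¹ ∈ (P0 : Subgroup Fi24) := by
    intro a
    rw [hP1', ← hg]
    constructor
    · intro h
      exact ⟨a, h, rfl⟩
    · rintro ⟨b, hb, hba⟩
      have h1 : g * b * g⁻¹ = g * a * g⁻¹ := hba
      have h2 : b = a := by
        have h3 := mul_right_cancel h1
        exact mul_left_cancel h3
      rwa [← h2]
  -- `y` conjugated
  set w : Fi24 := g * y * g⁻¹ with hw
  have hwo : orderOf w = 11 := by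
    rw [hw, ← MulAut.conj_apply, MulEquiv.orderOf_eq, hy]
  have hwP : w ∈ normalizer ((P0 : Subgroup Fi24) : Set Fi24) := by
    apply mem_normalizer_fintype
    intro a ha
    have h1 : g⁻¹ * a * g ∈ P := by
      rw [hmem]
      have : g * (g⁻¹ * a * g) * g⁻¹ = a := by group
      rw [this]; exact ha
    have h2 := (mem_normalizer_iff.1 hyP _).1 h1
    have h3 := (hmem _).1 h2
    have h4 : g * (y * (g⁻¹ * a * g) * y⁻¹) * g⁻¹ = w * a * w⁻¹ := by rw [hw]; group
    rw [← h4]; exact h3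
  -- the centre
  have hZne : ∃ z ∈ (P0 : Subgroup Fi24), z ≠ 1 ∧ ∀ h ∈ (P0 : Subgroup Fi24), Commute z h := by
    have hnt : Nontrivial P0 := by
      rw [← Finite.one_lt_card_iff_nontrivial]
      change 1 < Nat.card (P0 : Subgroup Fi24)
      rw [hc0]; norm_num
    have h4 := P0.isPGroup'.center_nontrivial
    obtain ⟨⟨z, hz⟩, hz1⟩ := exists_ne (1 : center P0)
    refine ⟨z, z.2, fun h => hz1 (Subtype.ext (Subtype.ext h)), fun h hh => ?_⟩
    exact (congrArg Subtype.val (mem_center_iff.1 hz ⟨h, hh⟩)).symm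
  obtain ⟨z, hzP, hz1, hzc⟩ := hZne
  have hzx := hP0 z hzc
  have hxo : orderOf x3 = 3 := orderOf_eq_prime x3_cube x3_ne
  have hzz : zpowers z = zpowers x3 := by
    refine eq_of_le_of_card_ge (zpowers_le.2 hzx) ?_
    rw [Nat.card_zpowers, Nat.card_zpowers, hxo]
    have h1 : orderOf z ∣ 3 := by rw [← hxo]; exact orderOf_dvd_of_mem_zpowers hzx
    rcases (Nat.dvd_prime Nat.prime_three).1 h1 with h2 | h2
    · exact absurd (orderOf_eq_one_iff.1 h2) hz1
    · exact h2.ge
  have hxP : x3 ∈ (P0 : Subgroup Fi24) ∧ ∀ h ∈ (P0 : Subgroup Fi24), Commute x3 h := by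
    have h1 : x3 ∈ zpowers z := by rw [hzz]; exact mem_zpowers _
    obtain ⟨k, hk⟩ := h1
    have hk' : z ^ k = x3 := hk
    rw [← hk']
    exact ⟨zpow_mem hzP k, fun h hh => (hzc h hh).zpow_left k⟩
  have hP0N : (P0 : Subgroup Fi24) ≤ NX := fun a ha => mem_NX_of_comm (hxP.2 a ha).symm
  have hwN : w ∈ NX := by
    have h1 : w * x3 * w⁻¹ ∈ zpowers x3 := by
      apply hP0
      intro h hh
      have h2 : w⁻¹ * h * w ∈ (P0 : Subgroup Fi24) := (mem_normalizer_iff''.1 hwP h).1 hh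
      have h3 := (hxP.2 _ h2).eq
      show w * x3 * w⁻¹ * h = h * (w * x3 * w⁻¹)
      calc w * x3 * w⁻¹ * h = w * (x3 * (w⁻¹ * h * w)) * w⁻¹ := by group
        _ = h * (w * x3 * w⁻¹) := by rw [h3]; group
    apply mem_normalizer_fintype
    rintro a ⟨k, rfl⟩
    obtain ⟨j, hj⟩ := h1
    refine ⟨j * k, ?_⟩
    show x3 ^ (j * k) = w * x3 ^ k * w⁻¹
    rw [zpow_mul, show x3 ^ j = w * x3 * w⁻¹ from hj, conj_zpow]
  -- in `NX`
  have hQn : (QQ DN).Normal := dat.normal_Q
  set R : Subgroup NX := (P0 : Subgroup Fi24).subgroupOf NX with hR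
  have hcR : Nat.card R = 3 ^ 16 := by
    rw [hR, ← card_map_of_injective (subtype_injective NX), subgroupOf_map_subtype, inf_eq_left.2 hP0N, hc0]
  have hQR : QQ DN ≤ R := by
    have hQp : IsPGroup 3 (QQ DN) := IsPGroup.of_card card_QQ
    obtain ⟨R1, hR1⟩ := (IsPGroup.of_card (p := 3) (n := 16) (G := R) hcR).exists_le_sylow
    have h1 : R = R1 := by
      refine eq_of_le_of_card_ge hR1 ?_
      rw [H555.RV.card_sylow_of R1 (b := 16) (n := 225280) (by rw [card_NX]; norm_num) (by norm_num), hcR]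
    rw [h1]
    exact hQp.le_sylow_of_normal R1
  let π : NX →* NX ⧸ QQ DN := QuotientGroup.mk' (QQ DN)
  have hfQ : Finite (NX ⧸ QQ DN) := inferInstance
  have hcR' : Nat.card (R.map π) = 3 ^ 5 := by
    have h1 : Nat.card (R.map π) * Nat.card (QQ DN) = Nat.card R := by
      have h2 := card_eq_card_quotient_mul_card_subgroup ((QQ DN).subgroupOf R)
      have h3 : Nat.card ((QQ DN).subgroupOf R) = Nat.card (QQ DN) := by
        rw [← card_map_of_injective (subtype_injective R), subgroupOf_map_subtype, inf_eq_left.2 hQR]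
      have h4 : Nat.card (R.map π) = Nat.card (R ⧸ (QQ DN).subgroupOf R) := by
        have h5 : (π.comp R.subtype).ker = (QQ DN).subgroupOf R := by
          rw [← MonoidHom.comap_ker, QuotientGroup.ker_mk']
          rfl
        rw [← h5]
        have h6 : (π.comp R.subtype).range = R.map π := by
          rw [MonoidHom.range_comp, range_subtype]
        rw [← h6]
        exact (Nat.card_congr (QuotientGroup.quotientKerEquivRange (π.comp R.subtype)).toEquiv).symm
      rw [h4, h2, h3]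
    rw [card_QQ, hcR] at h1
    have h2 : Nat.card (R.map π) * 3 ^ 11 = 3 ^ 5 * 3 ^ 11 := by rw [h1]; norm_num
    exact Nat.eq_of_mul_eq_mul_right (by norm_num) h2
  set wN : NX := ⟨w, hwN⟩ with hwNd
  have hwNo : wN ^ 11 = 1 := Subtype.ext (by
    show w ^ 11 = 1
    rw [← hwo, pow_orderOf_eq_one])
  have hpow : ∀ {H : Type} [Group H] {v : H}, v ^ 11 = 1 → IsPGroup 11 (zpowers v) := by
    intro H _ v hv
    rintro ⟨_, ⟨k, rfl⟩⟩
    refine ⟨1, Subtype.ext ?_⟩
    show (v ^ k) ^ 11 ^ 1 = 1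
    rw [pow_one, ← zpow_natCast, ← zpow_mul, mul_comm, zpow_mul, zpow_natCast, hv, one_zpow]
  have hπw : (π wN) ^ 11 = 1 := by rw [← map_pow, hwNo, map_one]
  obtain ⟨g9, hg9⟩ : ∃ g : NX ⧸ QQ DN, orderOf g = 3 ^ 2 := by
    obtain ⟨hn, ⟨j⟩⟩ := quot_NX
    obtain ⟨g, hg⟩ := exists_nine
    refine ⟨j.symm (1, g), ?_⟩
    rw [MulEquiv.orderOf_eq, Prod.orderOf_mk, orderOf_one, hg]
    rfl
  have hcen := le_cent_of_sq (t := 11) Nat.prime_three card_quot (by norm_num)
    (by
      intro i j hij hj h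
      interval_cases j <;> interval_cases i <;> first | exact ⟨rfl, rfl⟩ | (exact absurd h (by decide)))
    (by norm_num) hg9 hcR' (E := zpowers (π wN)) (hpow hπw) (by
      rw [zpowers_le]
      apply mem_normalizer_fintype
      rintro _ ⟨a, ha, rfl⟩
      refine ⟨wN * a * wN⁻¹, ?_, by rw [map_mul, map_mul, map_inv]⟩
      show (w * (a : Fi24) * w⁻¹) ∈ (P0 : Subgroup Fi24)
      exact (mem_normalizer_iff.1 hwP _).1 ha)
  -- lift the fixed points
  have hsub : R.map π ≤ (R ⊓ centralizer ({wN} : Set NX)).map π := by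
    intro u hu
    have h1 := hcen hu
    obtain ⟨a, ha, hac⟩ := Cfsg.Agent.LThreeFi24.Comp.exists_fixed_lift (p := 11) (by norm_num) (QQ DN)
      (by rw [card_QQ]; norm_num) (P := zpowers wN) (hpow hwNo) (y := u) (by
        rintro _ ⟨k, rfl⟩
        have h2 : π wN * u = u * π wN := mem_centralizer_iff.1 h1 _ (mem_zpowers _)
        have h3 : (π wN) ^ k * u = u * (π wN) ^ k := ((show Commute (π wN) u from h2).zpow_left k).eq
        show π (wN ^ k) * u * (π (wN ^ k))⁻¹ = u
        rw [map_zpow, h3, mul_inv_cancel_right])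
    refine ⟨a, ⟨?_, ?_⟩, ha⟩
    · obtain ⟨b, hb, hbu⟩ := hu
      have h4 : b⁻¹ * a ∈ QQ DN := QuotientGroup.eq.1 (hbu.trans ha.symm)
      have h5 : a = b * (b⁻¹ * a) := by group
      rw [h5]
      exact R.mul_mem hb (hQR h4)
    · show a ∈ centralizer ({wN} : Set NX)
      rw [mem_centralizer_singleton_iff]
      exact (hac wN (mem_zpowers _)).symm
  -- `3 ^ 5 ∣ |C(w)|`
  have h5 : 3 ^ 5 ∣ Nat.card (R ⊓ centralizer ({wN} : Set NX) : Subgroup NX) := by
    have h6 := card_dvd_of_le hsub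
    rw [hcR'] at h6
    exact h6.trans (card_map_dvd _ π)
  have h6 : Nat.card (R ⊓ centralizer ({wN} : Set NX) : Subgroup NX) ∣
      Nat.card (normalizer ((zpowers w : Subgroup Fi24) : Set Fi24)) := by
    rw [← card_map_of_injective (subtype_injective NX)]
    apply card_dvd_of_le
    rintro _ ⟨a, ⟨-, ha⟩, rfl⟩
    have h7 : a * wN = wN * a := mem_centralizer_singleton_iff.1 ha
    have h8 : (a : Fi24) * w = w * a := congrArg Subtype.val h7
    apply centralizer_le_normalizer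
    rw [zpowers_eq_closure, centralizer_closure]
    exact mem_centralizer_singleton_iff.2 h8
  have h7 : Nat.card (normalizer ((zpowers w : Subgroup Fi24) : Set Fi24)) = 2640 := by
    have hnd : ¬ 11 ^ 2 ∣ Nat.card Fi24 := by
      rw [card_Fi24]; norm_num
    obtain ⟨-, h8⟩ := H435.Fpr.IndexTwo.card_eq (by norm_num) hnd
      (X := zpowers Cfsg.Agent.H843.D11.D.x) (Y := zpowers w)
      (by rw [Nat.card_zpowers, Cfsg.Agent.H843.D11.order]) (by rw [Nat.card_zpowers, hwo])
    rw [h8, Cfsg.Agent.H843.D11.main]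
  rw [h7] at h6
  have h8 := h5.trans h6
  norm_num at h8

end Cfsg.Agent.H768.RM.F24
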