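import Cfsg.Agent.H768.RM.FiTwentyFourA
import Cfsg.Agent.H768.RM.FiTwentyFourB
import Cfsg.Agent.H464.RM.Tools
import Cfsg.Agent.H464.RM.ZC
import Cfsg.Agent.H898.FiveNorm
import Cfsg.Agent.H841.SylFiveD

/-!
# S3849, P11: `Fi24'`, the pairs `(3,5)`, `(3,7)`, `(3,11)`, `(3,17)` (helper768)
-/

set_option autoImplicit false
set_option maxRecDepth 100000

namespace Cfsg.Agent.H768.RM

open Subgroup Cfsg Cfsg.Agent.H571.DExt Cfsg.Agent.H988.CPi Cfsg.Agent.H171.Odd

universe u

namespace F24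

open Cfsg.Spor (Fi24)
open Cfsg.Agent.R08.FiTwentyFour (L)

/-- a 3-subgroup of `Fi24` lies in `Fi24'` -/
theorem le_comm_of_three {T : Subgroup Fi24} (hT : IsPGroup 3 T) : T ≤ commutator Fi24 := by
  intro a ha
  obtain ⟨k, hk⟩ := hT ⟨a, ha⟩
  have h1 : orderOf a ∣ 3 ^ k := orderOf_dvd_of_pow_eq_one (congrArg Subtype.val hk)
  have h2 : Odd (orderOf a) := Odd.of_dvd_nat (Odd.pow (by decide)) h1
  exact H573.Hall.F24.mem_comm_of_odd h2 rfl

/-! ### `(3,7)` -/

theorem no_3_7 (K : Subgroup G) : ¬ IsPiHall ({3, 7} : Set ℕ) K := by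
  have := fin
  refine H464.RM.no_gl (a := 16) (b := 3) (m := 85012093337600) (by norm_num) (by norm_num) (by norm_num)
    (by rw [card]; norm_num) (by norm_num) (by norm_num) H573.Hall.F24.inv_model.2.1
    (fun k => if k % 6 = 0 then 1 else 0) ?_ (by decide) K
  intro k h1 h2
  interval_cases k <;> norm_num

/-! ### `(3,17)` -/

/-- a nonabelian 3-subgroup -/
theorem exists_nab : ∃ E : Subgroup G, IsPGroup 3 E ∧ ∃ x ∈ E, ∃ y ∈ E, x * y ≠ y * x := by
  have hfin := R08.FiTwentyFour.finite_Fi24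
  have hp3 : Fact (Nat.Prime 3) := ⟨Nat.prime_three⟩
  obtain ⟨P0, hP0⟩ := H841.Tri.exists_sylow3
  have hle := le_comm_of_three P0.isPGroup'
  refine ⟨(P0 : Subgroup Fi24).comap (commutator Fi24).subtype,
    P0.isPGroup'.comap_of_injective _ (subtype_injective _), ?_⟩
  by_contra hcon
  push Not at hcon
  have h1 : (P0 : Subgroup Fi24) ≤ zpowers Cfsg.Agent.LThreeFi24.SNine.x3 := by
    intro g hg
    apply hP0
    intro h hh
    exact congrArg Subtype.val (hcon ⟨g, hle hg⟩ hg ⟨h, hle hh⟩ hh)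
  have h2 := card_dvd_of_le h1
  rw [P0.card_eq_multiplicity, H841.Tri.fac3, Nat.card_zpowers,
    orderOf_eq_prime H841.Tri.x3_cube H841.Tri.x3_ne] at h2
  exact absurd (Nat.le_of_dvd (by norm_num) h2) (by norm_num)

theorem no_3_17 (K : Subgroup G) : ¬ IsPiHall ({3, 17} : Set ℕ) K := by
  have := fin
  obtain ⟨E, hE, hna⟩ := exists_nab
  refine H464.RM.no_nab (a := 16) (m := 1715244000870400) (by norm_num) (by norm_num) (by norm_num)
    (by rw [card]; norm_num) (by norm_num) (by norm_num) ?_ ?_ hE hna K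
  · intro x hx hd
    have h1 := (H435.Fpr.FiTwentyFour.data17 (R := zpowers x) (by rw [Nat.card_zpowers, hx])).2
    have h2 := hd.trans h1
    norm_num at h2
  · intro k h1 h2
    interval_cases k <;> norm_num

/-! ### `(3,11)` -/

theorem no_3_11 (K : Subgroup G) : ¬ IsPiHall ({3, 11} : Set ℕ) K := by
  have := fin
  intro hK
  obtain ⟨Q, h, hcQ⟩ := H464.RM.sylow_of_inv (a := 16) (m := 2650831637708800) (by norm_num) (by norm_num)
    (by norm_num) (by rw [card]; norm_num) (by norm_num) (by norm_num) H573.Hall.F24.inv_model.2.2.1 (by norm_num) hK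
  have h11 : Fact (Nat.Prime 11) := ⟨by norm_num⟩
  obtain ⟨⟨y, hyK⟩, hy⟩ := exists_prime_orderOf_dvd_card' (G := K) 11 (by rw [h.card]; norm_num)
  rw [Subgroup.orderOf_mk] at hy
  refine not_eleven (P := Q.map (commutator Fi24).subtype) (y := (y : Fi24)) ?_ ?_ ?_
  · rw [card_map_of_injective (subtype_injective _), hcQ]
  · rw [← hy]
    exact orderOf_injective (commutator Fi24).subtype (subtype_injective _) y
  · exact le_normalizer_map (commutator Fi24).subtype ⟨y, h.nrm hyK, rfl⟩

/-! ### `(3,5)` -/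

/-- the centralizer of an element of order 5 -/
theorem five_cent {x : G} (hx : orderOf x = 5) : ¬ 3 ^ 5 ∣ Nat.card (centralizer ({x} : Set G)) := by
  intro hd
  have hfin := R08.FiTwentyFour.finite_Fi24
  have hX : Nat.card (zpowers (x : Fi24)) = 5 := by
    rw [Nat.card_zpowers, ← hx]
    exact orderOf_injective (commutator Fi24).subtype (subtype_injective _) x
  obtain ⟨F, h1, -, -, h4, h5, h6, ⟨h7⟩⟩ := H898.FiveNorm.np_all (zpowers (x : Fi24)) hX
  have h8 : Nat.card (centralizer ({x} : Set G)) ∣ Nat.card (normalizer ((zpowers (x : Fi24) : Subgroup Fi24) : Set Fi24)) := by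
    rw [← card_map_of_injective (subtype_injective (commutator Fi24))]
    apply card_dvd_of_le
    rintro _ ⟨a, ha, rfl⟩
    apply centralizer_le_normalizer
    rw [zpowers_eq_closure, centralizer_closure]
    exact mem_centralizer_singleton_iff.2 (congrArg Subtype.val (mem_centralizer_singleton_iff.1 ha))
  rw [← h6, H839.Count.card_sup_of_comm h5 h4, h1, Nat.card_congr h7.toEquiv, Nat.card_perm, Nat.card_fin] at h8
  have h9 := hd.trans h8
  revert h9
  decide +kernel

/-- the Sylow 3-subgroups of the symmetric group of degree 9 are nonabelian -/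
theorem perm_nine : ∃ T : Subgroup (Equiv.Perm (Fin 9)), IsPGroup 3 T ∧ ∃ a ∈ T, ∃ b ∈ T, a * b ≠ b * a := by
  have hp3 : Fact (Nat.Prime 3) := ⟨Nat.prime_three⟩
  let a : Equiv.Perm (Fin 9) := Equiv.swap 0 1 * Equiv.swap 1 2
  have ha3 : a ^ 3 = 1 := by decide +kernel
  have ha1 : a ≠ 1 := by decide +kernel
  have hp : IsPGroup 3 (zpowers a) := IsPGroup.of_card (n := 1) (by
    rw [Nat.card_zpowers, orderOf_eq_prime ha3 ha1, pow_one])
  obtain ⟨T, hT⟩ := hp.exists_le_sylow
  refine ⟨T, T.isPGroup', ?_⟩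
  by_contra hcon
  push Not at hcon
  have haT : a ∈ (T : Subgroup (Equiv.Perm (Fin 9))) := hT (mem_zpowers a)
  have h1 : (T : Subgroup (Equiv.Perm (Fin 9))) ≤ centralizer ({a} : Set (Equiv.Perm (Fin 9))) := by
    intro b hb
    rw [mem_centralizer_singleton_iff]
    exact hcon b hb a haT
  have h2 : 3 ^ 4 ∣ Nat.card (T : Subgroup (Equiv.Perm (Fin 9))) := by
    apply T.pow_dvd_card_of_pow_dvd_card
    rw [Nat.card_perm, Nat.card_fin]
    decide +kernel
  have h3 := h2.trans (card_dvd_of_le h1)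
  have hct : a.cycleType = {3} := by decide +kernel
  rw [Equiv.Perm.nat_card_centralizer, hct] at h3
  revert h3
  decide +kernel

/-- a nonabelian 3-subgroup centralizing an element of order 5 -/
theorem five_nab {x : G} (hx : orderOf x = 5) : ∃ T : Subgroup G, IsPGroup 3 T ∧ T ≤ centralizer ({x} : Set G) ∧
    ∃ a ∈ T, ∃ b ∈ T, a * b ≠ b * a := by
  have hfin := R08.FiTwentyFour.finite_Fi24
  have hX : Nat.card (zpowers (x : Fi24)) = 5 := by
    rw [Nat.card_zpowers, ← hx]
    exact orderOf_injective (commutator Fi24).subtype (subtype_injective _) x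
  obtain ⟨F, -, -, -, -, -, -, ⟨h7⟩⟩ := H898.FiveNorm.np_all (zpowers (x : Fi24)) hX
  obtain ⟨T, hT, a, ha, b, hb, hab⟩ := perm_nine
  set C := closure (L ∩ (centralizer ((zpowers (x : Fi24) : Subgroup Fi24) : Set Fi24) : Set Fi24)) with hC
  let φ : Equiv.Perm (Fin 9) →* Fi24 := C.subtype.comp h7.symm.toMonoidHom
  have hφ : Function.Injective φ := (subtype_injective C).comp h7.symm.injective
  have hTp : IsPGroup 3 (T.map φ) := hT.map φ
  have hle := le_comm_of_three hTp
  have hCc : ∀ c ∈ C, c * (x : Fi24) = x * c := by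
    intro c hc
    have h1 : C ≤ centralizer ({(x : Fi24)} : Set Fi24) := by
      rw [hC, closure_le]
      rintro d ⟨-, hd⟩
      show d ∈ centralizer ({(x : Fi24)} : Set Fi24)
      rw [mem_centralizer_singleton_iff]
      exact (mem_centralizer_iff.1 hd _ (mem_zpowers _)).symm
    exact mem_centralizer_singleton_iff.1 (h1 hc)
  refine ⟨(T.map φ).comap (commutator Fi24).subtype, hTp.comap_of_injective _ (subtype_injective _), ?_, ?_⟩
  · rintro c ⟨d, hd, hdc⟩
    rw [mem_centralizer_singleton_iff]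
    apply Subtype.ext
    have h1 : (c : Fi24) = φ d := hdc.symm
    show (c : Fi24) * x = x * c
    rw [h1]
    exact hCc _ (h7.symm d).2
  · refine ⟨⟨φ a, hle ⟨a, ha, rfl⟩⟩, ⟨a, ha, rfl⟩, ⟨φ b, hle ⟨b, hb, rfl⟩⟩, ⟨b, hb, rfl⟩, fun h => hab ?_⟩
    apply hφ
    rw [map_mul, map_mul]
    exact congrArg Subtype.val h

theorem exists_E5 : ∃ E : Subgroup G, IsElementaryAbelian 5 E ∧ Nat.card E = 5 ^ 2 := by
  have hfin := R08.FiTwentyFour.finite_Fi24
  have hp5 : Fact (Nat.Prime 5) := ⟨by norm_num⟩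
  obtain ⟨E⟩ : Nonempty (Sylow 5 Fi24) := inferInstance
  obtain ⟨h1, h2, -⟩ := H841.Five.main (MulEquiv.refl Fi24) (D := L) (by simp) E
  have hle : (E : Subgroup Fi24) ≤ commutator Fi24 := by
    intro a ha
    have h3 := h1.2 a ha
    exact H573.Hall.F24.mem_comm_of_odd (Odd.of_dvd_nat (by decide) (orderOf_dvd_of_pow_eq_one h3)) rfl
  refine ⟨(E : Subgroup Fi24).subgroupOf (commutator Fi24), ⟨⟨⟨?_⟩⟩, ?_⟩, ?_⟩
  · rintro ⟨a, ha⟩ ⟨b, hb⟩
    apply Subtype.ext
    apply Subtype.ext
    have h5 := congrArg (Subtype.val : ↥(E : Subgroup Fi24) → Fi24)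
      (h1.1.is_comm.comm ⟨((a : G) : Fi24), ha⟩ ⟨((b : G) : Fi24), hb⟩)
    exact h5
  · intro a ha
    exact Subtype.ext (h1.2 a ha)
  · rw [← card_map_of_injective (subtype_injective (commutator Fi24)), subgroupOf_map_subtype, inf_eq_left.2 hle, h2]
    norm_num

theorem no_3_5 (K : Subgroup G) : ¬ IsPiHall ({3, 5} : Set ℕ) K := by
  have := fin
  have hp3 : Fact (Nat.Prime 3) := ⟨Nat.prime_three⟩
  have hp5 : Fact (Nat.Prime 5) := ⟨by norm_num⟩
  refine no_of_fix (a := 16) (b := 2) (m := 1166365920591872) card (by norm_num) (by norm_num) (by decide +kernel)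
    H573.Hall.F24.inv_model.1 exists_E5 (fun E hE hcE x hxE hx R hR hER hRx => ?_) K
  have hEp : IsPGroup 5 E := IsPGroup.of_card hcE
  obtain ⟨j, hj⟩ := hR.exists_card_eq
  have hj4 : j ≤ 4 := by
    by_contra h3
    push Not at h3
    refine five_cent hx ?_
    have h4 := card_dvd_of_le hRx
    rw [hj] at h4
    exact (pow_dvd_pow 3 h3).trans h4
  obtain ⟨i, hij, h1, h2⟩ := card_fix Nat.prime_three hj hEp hER
  have h3 : i = j ∨ (i = 0 ∧ j = 4) := by
    interval_cases j <;> interval_cases i <;> first | exact Or.inl rfl | exact Or.inr ⟨rfl, rfl⟩ |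
      (exact absurd h2 (by decide))
  rcases h3 with h3 | ⟨h3, h4⟩
  · exact inf_eq_left.1 (eq_of_le_of_card_ge inf_le_left (by rw [h1, h3, hj]))
  · exfalso
    subst h3 h4
    rw [pow_zero] at h1
    have hbot := card_eq_one.1 h1
    have hRne : R ≠ ⊥ := by
      rintro rfl
      rw [card_bot] at hj
      norm_num at hj
    -- `R` is abelian
    have hZ : R ⊓ centralizer (R : Set G) = R := by
      obtain ⟨l, hl⟩ := (hR.to_le (inf_le_left : R ⊓ centralizer (R : Set G) ≤ R)).exists_card_eq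
      have hl4 : l ≤ 4 := by
        have h3 := card_dvd_of_le (inf_le_left : R ⊓ centralizer (R : Set G) ≤ R)
        rw [hl, hj] at h3
        exact (Nat.pow_dvd_pow_iff_le_right (by norm_num)).1 h3
      obtain ⟨i', hi', h3, h4⟩ := card_fix Nat.prime_three hl hEp (by
        intro e he
        have h4 := hER he
        apply mem_normalizer_fintype
        rintro p ⟨hp1, hp2⟩
        refine ⟨(mem_normalizer_iff.1 h4 p).1 hp1, mem_centralizer_iff.2 fun q hq => ?_⟩
        have h5 : e⁻¹ * q * e ∈ R := (mem_normalizer_iff''.1 h4 q).1 hq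
        have h6 := mem_centralizer_iff.1 hp2 _ h5
        calc q * (e * p * e⁻¹) = e * ((e⁻¹ * q * e) * p) * e⁻¹ := by group
          _ = e * p * e⁻¹ * q := by rw [h6]; group)
      have h5 : R ⊓ centralizer (R : Set G) ⊓ centralizer (E : Set G) = ⊥ :=
        le_bot_iff.1 (by rw [← hbot]; exact inf_le_inf_right _ inf_le_left)
      rw [h5, card_bot] at h3
      have hi0 : i' = 0 := by
        rcases Nat.eq_zero_or_pos i' with h6 | h6
        · exact h6
        · exfalso
          have h7 := Nat.one_lt_pow h6.ne' (show 1 < 3 by norm_num)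
          omega
      subst hi0
      have hl0 : l ≠ 0 := by
        rintro rfl
        rw [pow_zero] at hl
        have h6 := card_eq_one.1 hl
        have hnt : Nontrivial R := (nontrivial_iff_ne_bot R).2 hRne
        have h7 := hR.center_nontrivial
        obtain ⟨⟨z, hz⟩, hz1⟩ := exists_ne (1 : center R)
        have h8 : (z : G) ∈ R ⊓ centralizer (R : Set G) := by
          refine ⟨z.2, mem_centralizer_iff.2 fun p hp => ?_⟩
          exact congrArg Subtype.val (mem_center_iff.1 hz ⟨p, hp⟩)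
        rw [h6, mem_bot] at h8
        exact hz1 (Subtype.ext (Subtype.ext h8))
      have hl4' : l = 4 := by
        interval_cases l <;> first | rfl | (exact absurd rfl hl0) | (exact absurd h4 (by decide))
      exact eq_of_le_of_card_ge inf_le_left (by rw [hl, hj, hl4'])
    have hcomm : ∀ a ∈ R, ∀ b ∈ R, a * b = b * a := by
      intro a ha b hb
      rw [← hZ] at hb
      exact mem_centralizer_iff.1 hb.2 a ha
    -- a Sylow 3-subgroup of `C(x)`
    obtain ⟨T, hT, hTx, a, ha, b, hb, hab⟩ := five_nab hx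
    set C := centralizer ({x} : Set G) with hC
    obtain ⟨T1, hT1⟩ := (hT.comap_subtype : IsPGroup 3 (T.subgroupOf C)).exists_le_sylow
    obtain ⟨R1, hR1⟩ := (hR.comap_subtype : IsPGroup 3 (R.subgroupOf C)).exists_le_sylow
    have hcR : Nat.card (R.subgroupOf C) = 3 ^ 4 := by
      rw [← card_map_of_injective (subtype_injective C), subgroupOf_map_subtype, inf_eq_left.2 hRx, hj]
    have hR1' : R.subgroupOf C = R1 := by
      refine eq_of_le_of_card_ge hR1 ?_
      obtain ⟨l, hl⟩ := R1.isPGroup'.exists_card_eq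
      have hl' : Nat.card (R1 : Subgroup C) = 3 ^ l := hl
      have h5 : l < 5 := by
        by_contra h6
        push Not at h6
        refine five_cent hx ((pow_dvd_pow 3 h6).trans ?_)
        rw [← hl']
        exact card_subgroup_dvd_card _
      rw [hl', hcR]
      exact Nat.pow_le_pow_right (by norm_num) (by omega)
    obtain ⟨c, hc⟩ := MulAction.exists_smul_eq C T1 R1
    have key : ∀ u : C, u ∈ T.subgroupOf C → ((c * u * c⁻¹ : C) : G) ∈ R := by
      intro u hu
      have h5 : c * u * c⁻¹ ∈ (R1 : Subgroup C) := by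
        rw [← hc]
        exact ⟨u, hT1 hu, rfl⟩
      rw [← hR1'] at h5
      exact h5
    have h5 := hcomm _ (key ⟨a, hTx ha⟩ ha) _ (key ⟨b, hTx hb⟩ hb)
    apply hab
    have h6 : (c : G) * a * (c : G)⁻¹ * ((c : G) * b * (c : G)⁻¹) = (c : G) * b * (c : G)⁻¹ * ((c : G) * a * (c : G)⁻¹) := h5
    have h7 : (c : G) * (a * b) * (c : G)⁻¹ = (c : G) * (b * a) * (c : G)⁻¹ := by
      calc (c : G) * (a * b) * (c : G)⁻¹ = (c : G) * a * (c : G)⁻¹ * ((c : G) * b * (c : G)⁻¹) := by group
        _ = (c : G) * (b * a) * (c : G)⁻¹ := by rw [h6]; group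
    exact mul_left_cancel (mul_right_cancel h7)

end F24

theorem no_fi24_3_5 {S : Type u} [Group S] [Finite S] [IsSimpleGroup S] (h : Spor.IsoFi24' S) :
    ¬ Dom ({3, 5} : Set ℕ) S := F24.of_model h (no_dom F24.no_3_5)

theorem no_fi24_3_7 {S : Type u} [Group S] [Finite S] [IsSimpleGroup S] (h : Spor.IsoFi24' S) :
    ¬ Dom ({3, 7} : Set ℕ) S := F24.of_model h (no_dom F24.no_3_7)

theorem no_fi24_3_11 {S : Type u} [Group S] [Finite S] [IsSimpleGroup S] (h : Spor.IsoFi24' S) :
    ¬ Dom ({3, 11} : Set ℕ) S := F24.of_model h (no_dom F24.no_3_11)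

theorem no_fi24_3_17 {S : Type u} [Group S] [Finite S] [IsSimpleGroup S] (h : Spor.IsoFi24' S) :
    ¬ Dom ({3, 17} : Set ℕ) S := F24.of_model h (no_dom F24.no_3_17)

end Cfsg.Agent.H768.RM
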