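import Cfsg.Agent.H768.RM.FiTwentyThree
import Cfsg.Agent.H435.Fpr.FiTwentyFour
import Cfsg.Agent.H573.Hall.FiTwentyFour

/-!
# S3849, P11: `Fi24'`, the pairs `(3,13)`, `(3,23)` (helper768)
-/

set_option autoImplicit false

namespace Cfsg.Agent.H768.RM

open Subgroup Cfsg Cfsg.Agent.H571.DExt

universe u

namespace F24

/-- the model -/
abbrev G : Type := Spor.Fi24'

theorem card : Nat.card G = 1255205709190661721292800 := H573.Hall.F24.card_Fi24'

theorem fin : Finite G := Nat.finite_of_card_ne_zero (by rw [card]; norm_num)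

theorem ex_prime {t : ℕ} (ht : t.Prime) (hd : t ∣ 1255205709190661721292800) :
    ∃ x : G, orderOf x = t ∧ Nat.card ↥(zpowers x) = t := by
  have := fin
  have : Fact t.Prime := ⟨ht⟩
  obtain ⟨x, hx⟩ := exists_prime_orderOf_dvd_card' (G := G) t (by rw [card]; exact hd)
  exact ⟨x, hx, by rw [Nat.card_zpowers, hx]⟩

theorem of_model {S : Type u} [Group S] (h : Spor.IsoFi24' S) {π : Set ℕ} (hG : ¬ Dom π G) : ¬ Dom π S := by
  obtain ⟨e⟩ := h
  exact fun hD => hG (RV.FiTF.dom_congr e hD)

/-- `Fi23 ≤ Fi24'` -/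
theorem exists_emb : ∃ f : Spor.Fi23 →* G, Function.Injective f := by
  have hs := H435.Fpr.FiTwentyThree.simple
  have hcomm : _root_.commutator Cfsg.Spor.Fi23 = ⊤ := by
    rcases (inferInstance : (_root_.commutator Cfsg.Spor.Fi23).Normal).eq_bot_or_eq_top with h1 | h1
    · exfalso
      obtain ⟨g, y, -, -, -, h4⟩ : H715.Fpr.Acts 3 13 Cfsg.Spor.Fi23 := by
        have := H435.Fpr.FiTwentyThree.fin
        exact H715.Fpr.acts_of H435.Fpr.FiTwentyThree.card (by decide +kernel) (by decide +kernel)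
          (by decide +kernel) (fun _ hR => H961.SepFi23.data13 hR) 2 (by decide +kernel)
      have h5 := (commutator_eq_bot_iff_le_centralizer.1 h1) (mem_top y)
      exact h4 (mem_centralizer_iff.1 h5 g (mem_top g)).symm
    · exact h1
  have hmem : ∀ k, R08.FiTwentyFour.facts.phi k ∈ _root_.commutator Cfsg.Spor.Fi24 := by
    intro k
    have h1 : k ∈ _root_.commutator Cfsg.Spor.Fi23 := by rw [hcomm]; exact mem_top _
    have h2 : (_root_.commutator Cfsg.Spor.Fi23).map R08.FiTwentyFour.facts.phi ≤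
        _root_.commutator Cfsg.Spor.Fi24 := by
      unfold _root_.commutator
      rw [map_commutator]
      exact commutator_mono le_top le_top
    exact h2 ⟨k, h1, rfl⟩
  refine ⟨R08.FiTwentyFour.facts.phi.codRestrict (_root_.commutator Cfsg.Spor.Fi24) hmem, ?_⟩
  intro a b hab
  exact R08.FiTwentyFour.facts.phi_injective (congrArg Subtype.val hab)

theorem sylow_mod {R : Subgroup G} {t : ℕ} (ht : t.Prime) (hR : Nat.card R = t) (h2 : ¬ t ^ 2 ∣ 1255205709190661721292800) :
    ∃ q : ℕ, q % t = 1 ∧ 1255205709190661721292800 = Nat.card (normalizer (R : Set G)) * q := by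
  have := fin
  have hft : Fact t.Prime := ⟨ht⟩
  obtain ⟨P, hP⟩ : ∃ P : Sylow t G, (P : Subgroup G) = R := by
    obtain ⟨P, hP⟩ := (IsPGroup.of_card (p := t) (n := 1) (G := R) (by rw [hR, pow_one])).exists_le_sylow
    refine ⟨P, (eq_of_le_of_card_ge hP ?_).symm⟩
    obtain ⟨k, hk⟩ := P.isPGroup'.exists_card_eq
    have h3 : t ^ k ∣ 1255205709190661721292800 := by
      rw [← hk, ← card]; exact card_subgroup_dvd_card _
    have h4 : k ≤ 1 := by
      by_contra h5
      push Not at h5
      exact h2 ((pow_dvd_pow t h5).trans h3)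
    rw [hk, hR]
    calc t ^ k ≤ t ^ 1 := Nat.pow_le_pow_right ht.pos h4
      _ = t := pow_one t
  refine ⟨Nat.card (Sylow t G), ?_, ?_⟩
  · have h3 := card_sylow_modEq_one t G
    have h4 : Nat.card (Sylow t G) % t = 1 % t := h3
    rw [h4, Nat.mod_eq_of_lt ht.one_lt]
  · have h5 : Nat.card (Sylow t G) = (normalizer (R : Set G)).index := by
      rw [P.card_eq_index_normalizer]
      exact congrArg (fun X : Subgroup G => (normalizer (X : Set G)).index) hP
    rw [h5, card_mul_index, card]

theorem card_n13 {R : Subgroup G} (hR : Nat.card R = 13) : Nat.card (normalizer (R : Set G)) = 2808 := by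
  have := fin
  have hF := H573.Hall.F23.fin
  obtain ⟨f, hf⟩ := exists_emb
  obtain ⟨x, -, hX⟩ := F23.ex_prime (t := 13) (by norm_num) (by norm_num)
  have h1 := (H961.SepFi23.data13 hX).2
  have h2 : Nat.card ((zpowers x).map f) = 13 := by rw [card_map_of_injective hf, hX]
  have h3 : 468 ∣ Nat.card (normalizer (((zpowers x).map f : Subgroup G) : Set G)) := by
    rw [← h1, ← card_map_of_injective hf (K := normalizer ((zpowers x : Subgroup Spor.Fi23) : Set Spor.Fi23))]
    apply card_dvd_of_le
    exact le_normalizer_map f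
  obtain ⟨-, h4⟩ := H435.Fpr.IndexTwo.card_eq (by norm_num) (by rw [card]; norm_num) h2 hR
  rw [← h4] at h3
  obtain ⟨k, hk⟩ := h3
  have h5 := H435.Fpr.FiTwentyFour.le13 hR
  obtain ⟨q, hq, hq'⟩ := sylow_mod (by norm_num) hR (by norm_num)
  rw [hk] at h5 hq' ⊢
  have h6 : k ≤ 12 := by omega
  clear hk h4
  interval_cases k <;> omega

end F24

theorem no_fi24_3_13 {S : Type u} [Group S] [Finite S] [IsSimpleGroup S] (h : Spor.IsoFi24' S) :
    ¬ Dom ({3, 13} : Set ℕ) S := by
  refine F24.of_model h ?_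
  have := F24.fin
  obtain ⟨x, hx, hX⟩ := F24.ex_prime (t := 13) (by norm_num) (by norm_num)
  exact no_of_norm (a := 16) (d := 3) (m := 2243011385753600) F24.card (by norm_num) (by norm_num) hx
    (F24.card_n13 hX) (by decide +kernel)

theorem no_fi24_3_23 {S : Type u} [Group S] [Finite S] [IsSimpleGroup S] (h : Spor.IsoFi24' S) :
    ¬ Dom ({3, 23} : Set ℕ) S := by
  refine F24.of_model h ?_
  have := F24.fin
  obtain ⟨x, hx, hX⟩ := F24.ex_prime (t := 23) (by norm_num) (by norm_num)
  exact no_of_norm (a := 16) (d := 0) (m := 1267789044121600) F24.card (by norm_num) (by norm_num) hx rfl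
    ⟨by norm_num, by norm_num, by norm_num, by norm_num, one_dvd _, fun hd => by
      have h1 := (H435.Fpr.FiTwentyFour.data23 hX).2
      have h2 := hd.trans h1
      norm_num at h2, by norm_num⟩

end Cfsg.Agent.H768.RM
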